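import Cfsg.Agent.H3.Wedd
import Cfsg.Agent.H3.Invol

/-!
Burnside's theorem on classes of prime power size and the two-prime theorem.
-/

set_option autoImplicit false
set_option linter.unusedSectionVars false

namespace Cfsg.Agent.H9

open Polynomial H3
open scoped MonoidAlgebra

theorem eq_of_avg_integral {ι : Type*} [Fintype ι] {n : ℕ} (hn : 0 < n) (f : ι → ℂ)
    (hf : ∀ i, f i ^ n = 1) {α : ℂ} (hα : α * Fintype.card ι = ∑ i, f i) (hi : IsIntegral ℤ α)
    (h0 : α ≠ 0) (i : ι) : f i = α := by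
  have hpos : (0 : ℝ) < Fintype.card ι := by exact_mod_cast Fintype.card_pos_iff.2 ⟨i⟩
  have hc : (Fintype.card ι : ℂ) ≠ 0 := by exact_mod_cast hpos.ne'
  let K := IntermediateField.adjoin ℚ (Set.range f)
  have : FiniteDimensional ℚ K := IntermediateField.finiteDimensional_adjoin (by
    rintro _ ⟨j, rfl⟩
    exact IsIntegral.of_pow hn (by rw [hf]; exact isIntegral_one))
  have : NumberField K := NumberField.mk
  let g : ι → K := fun j => ⟨f j, IntermediateField.subset_adjoin _ _ ⟨j, rfl⟩⟩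
  have hg : ∀ j, g j ^ n = 1 := fun j => Subtype.ext (hf j)
  let β : K := (∑ j, g j) / Fintype.card ι
  have hβ : (β : ℂ) = α := by
    simp only [β, g]
    push_cast
    rw [← hα, mul_div_cancel_right₀ _ hc]
  have hβi : IsIntegral ℤ β := by
    rw [← isIntegral_algebraMap_iff (B := ℂ) (algebraMap K ℂ).injective]
    rwa [show algebraMap K ℂ β = α from hβ]
  obtain ⟨m, hm, h1⟩ := NumberField.Embeddings.pow_eq_one_of_norm_le_one K ℂ
    (fun h => h0 (by rw [← hβ, h]; rfl)) hβi fun φ => by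
      simp only [β, map_div₀, map_sum, map_natCast, norm_div, Complex.norm_natCast]
      rw [div_le_one hpos]
      refine (norm_sum_le _ _).trans (le_of_eq ?_)
      rw [Finset.sum_congr rfl fun j _ => Complex.norm_eq_one_of_pow_eq_one
        (by rw [← map_pow, hg, map_one]) hn.ne']
      simp
  have h2 : ‖α‖ = 1 := Complex.norm_eq_one_of_pow_eq_one
    (by rw [← hβ]; exact congrArg Subtype.val h1) hm.ne'
  have h3 : ∀ j, ‖f j‖ = 1 := fun j => Complex.norm_eq_one_of_pow_eq_one (hf j) hn.ne'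
  have h4 : ∑ j, Complex.normSq (f j - α) = 0 := by
    simp only [Complex.normSq_sub]
    simp only [Complex.normSq_eq_norm_sq, h2, h3]
    rw [Finset.sum_sub_distrib, ← Finset.mul_sum, ← Complex.re_sum, ← Finset.sum_mul, ← hα,
      mul_right_comm, Complex.mul_conj, Complex.normSq_eq_norm_sq, h2]
    simp
    ring
  have h5 := (Finset.sum_eq_zero_iff_of_nonneg fun j _ => Complex.normSq_nonneg _).1 h4 i
    (Finset.mem_univ i)
  exact sub_eq_zero.1 (Complex.normSq_eq_zero.1 h5)

section Mat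
variable {m : Type*} [Fintype m] [DecidableEq m]

theorem pow_eq_one_of_mem_roots {M : Matrix m m ℂ} {n : ℕ} (hM : M ^ n = 1) {c : ℂ}
    (hc : c ∈ M.charpoly.roots) : c ^ n = 1 := by
  have h1 := (mem_roots M.charpoly_monic.ne_zero).1 hc
  rw [IsRoot, Matrix.eval_charpoly, ← Matrix.exists_mulVec_eq_zero_iff] at h1
  obtain ⟨v, hv, h1⟩ := h1
  have h2 : M.mulVec v = c • v := by
    rw [Matrix.sub_mulVec, sub_eq_zero] at h1
    rw [← h1]
    ext i
    simp [Matrix.mulVec_diagonal]
  have h3 : ∀ k : ℕ, (M ^ k).mulVec v = c ^ k • v := by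
    intro k
    induction k with
    | zero => simp
    | succ k ih => rw [pow_succ', ← Matrix.mulVec_mulVec, ih, Matrix.mulVec_smul, h2, smul_smul,
        pow_succ]
  have h4 := h3 n
  rw [hM, Matrix.one_mulVec] at h4
  by_contra h
  apply hv
  have : (c ^ n - 1) • v = 0 := by rw [sub_smul, ← h4, one_smul, sub_self]
  exact (smul_eq_zero.1 this).resolve_left (sub_ne_zero.2 h)

theorem isIntegral_trace {M : Matrix m m ℂ} {n : ℕ} (hn : 0 < n) (hM : M ^ n = 1) :
    IsIntegral ℤ M.trace := by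
  rw [Matrix.trace_eq_sum_roots_charpoly]
  exact IsIntegral.multiset_sum fun c hc =>
    IsIntegral.of_pow hn (by rw [pow_eq_one_of_mem_roots hM hc]; exact isIntegral_one)

theorem eq_scalar_of_integral {M : Matrix m m ℂ} {n : ℕ} (hn : 0 < n) (hM : M ^ n = 1) {α : ℂ}
    (hα : α * Fintype.card m = M.trace) (hi : IsIntegral ℤ α) (h0 : α ≠ 0) :
    M = α • (1 : Matrix m m ℂ) := by
  classical
  have hs := IsAlgClosed.splits M.charpoly
  have hcard : M.charpoly.roots.card = Fintype.card m := by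
    rw [← hs.natDegree_eq_card_roots, Matrix.charpoly_natDegree_eq_dim]
  have h1 : ∀ c ∈ M.charpoly.roots, c = α := fun c hc =>
    eq_of_avg_integral (ι := M.charpoly.roots) hn (fun x => (x : ℂ))
      (fun x => pow_eq_one_of_mem_roots hM (Multiset.coe_mem (x := x)))
      (by rw [Multiset.card_coe, hcard, hα, Matrix.trace_eq_sum_roots_charpoly,
        Multiset.sum_eq_sum_coe]) hi h0 ⟨c, 0, Multiset.count_pos.2 hc⟩
  rcases isEmpty_or_nonempty m with h | h
  · exact Subsingleton.elim _ _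
  have h2 : M.charpoly = (X - C α) ^ Fintype.card m := by
    rw [hs.eq_prod_roots_of_monic M.charpoly_monic, Multiset.eq_replicate_of_mem h1, hcard]
    simp
  obtain ⟨c, hc⟩ := Multiset.card_pos_iff_exists_mem.1 (hcard ▸ Fintype.card_pos)
  have h3 : α ^ n = 1 := h1 c hc ▸ pow_eq_one_of_mem_roots hM hc
  obtain ⟨q, hq⟩ : X - C α ∣ (X ^ n - C 1 : ℂ[X]) := dvd_iff_isRoot.2 (by simp [h3])
  have h4 := separable_X_pow_sub_C (n := n) (1 : ℂ) (by exact_mod_cast hn.ne') one_ne_zero
  rw [hq] at h4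
  obtain ⟨a, b, hab⟩ := (h4.isCoprime.pow_left (m := Fintype.card m))
  have h5 := congrArg (aeval M) hab
  rw [← h2, map_add, map_mul, Matrix.aeval_self_charpoly, mul_zero, zero_add, map_one] at h5
  have h6 := congrArg (aeval M) hq
  simp only [map_sub, map_pow, aeval_X, hM, map_one, sub_self] at h6
  have h7 : aeval M (X - C α) = 0 := by
    rw [← mul_one (aeval M (X - C α)), ← h5, ← map_mul, mul_left_comm, map_mul, ← h6, mul_zero]
  simp only [map_sub, aeval_X, aeval_C, sub_eq_zero] at h7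
  rw [h7, Algebra.algebraMap_eq_smul_one]

theorem isIntegral_of_eigen (A : Matrix m m ℤ) {v : m → ℂ} (hv : v ≠ 0) {ω : ℂ}
    (h : (A.map (Int.castRingHom ℂ)).mulVec v = ω • v) : IsIntegral ℤ ω := by
  refine ⟨A.charpoly, A.charpoly_monic, ?_⟩
  rw [← eval_map, show algebraMap ℤ ℂ = Int.castRingHom ℂ from rfl, ← Matrix.charpoly_map,
    Matrix.eval_charpoly, ← Matrix.exists_mulVec_eq_zero_iff]
  refine ⟨v, hv, ?_⟩
  rw [Matrix.sub_mulVec, h, sub_eq_zero]
  ext i
  simp [Matrix.mulVec_diagonal]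

end Mat

variable {G : Type*} [Group G]

theorem isIntegral_χ [Fintype G] (W : Wedd G) (i : Fin W.n) (g : G) :
    IsIntegral ℤ (W.χ i (gE g)) :=
  isIntegral_trace (M := W.φ (gE g) i) (orderOf_pos g) (by
    rw [← Pi.pow_apply, ← map_pow, ← gE_pow, pow_orderOf_eq_one, gE_one, map_one, Pi.one_apply])

/-- Burnside's lemma: `|cl(g)| χ(g) / χ(1)` is an algebraic integer. -/
theorem exists_central_char [Fintype G] (W : Wedd G) (i : Fin W.n) (g : G) :
    ∃ ω : ℂ, IsIntegral ℤ ω ∧
      ω * W.d i = (Subgroup.centralizer ({g} : Set G)).index * W.χ i (gE g) := by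
  classical
  let c : ℂ[G] := ofFun fun h => if IsConj g h then 1 else 0
  have hc : ∀ b, b * c = c * b := central_of_commute_gE fun x => by
    rw [commute_gE_iff]
    intro h
    simp only [c, coeff_ofFun]
    have : IsConj h (x⁻¹ * h * x) := isConj_iff.2 ⟨x⁻¹, by rw [inv_inv]⟩
    rw [if_congr ⟨fun h => h.trans this.symm, fun h => h.trans this⟩ rfl rfl]
  obtain ⟨ω, hω⟩ := W.exists_scalar hc i
  refine ⟨ω, ?_, ?_⟩
  · refine isIntegral_of_eigen (Matrix.of fun x y : G => if IsConj g (x * y⁻¹) then 1 else 0)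
      (v := fun x => (W.e i).coeff x) (fun h => W.e_ne_zero i (ext_coeff fun x => ?_)) ?_
    · simpa using congrFun h x
    · ext x
      have := congrArg (fun a : ℂ[G] => a.coeff x) (W.mul_e_of_scalar hω)
      simp only [coeff_mul_sum', c, coeff_ofFun] at this
      simpa [Matrix.mulVec, dotProduct] using this
  · rw [← W.χ_of_scalar hω, W.χ_eq_sum, ← card_class_eq_index, Nat.card_eq_fintype_card,
      Fintype.card_subtype]
    simp only [c, coeff_ofFun, ite_mul, one_mul, zero_mul]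
    rw [← Finset.sum_filter, Finset.sum_congr rfl fun h hh =>
      (W.χ_gE_isConj i (Finset.mem_filter.1 hh).2).symm]
    simp

/-- Burnside: in a simple group an element with class of prime power size is central. -/
theorem mem_center_of_index_centralizer [Finite G] [IsSimpleGroup G] {p k : ℕ} (hp : p.Prime)
    {g : G} (h : (Subgroup.centralizer ({g} : Set G)).index = p ^ k) :
    g ∈ Subgroup.center G := by
  classical
  by_cases hg : g = 1
  · rw [hg]; exact one_mem _
  have := Fintype.ofFinite G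
  obtain ⟨W⟩ := nonempty_wedd G
  obtain ⟨i₀, hi₀⟩ := W.exists_ker_eq_top
  have h1 := W.regular (gE g)
  rw [coeff_gE, if_neg hg, mul_zero, ← Finset.add_sum_erase _ _ (Finset.mem_univ i₀),
    W.χ_gE_of_ker_eq_top hi₀, W.d_eq_one_of_ker_eq_top hi₀] at h1
  have h2 : ∃ i, i ≠ i₀ ∧ ¬ p ∣ W.d i ∧ W.χ i (gE g) ≠ 0 := by
    by_contra hcon
    push Not at hcon
    have hp0 : (p : ℂ) ≠ 0 := by exact_mod_cast hp.ne_zero
    have h3 : IsIntegral ℤ (algebraMap ℚ ℂ (-1 / p)) := by
      have : algebraMap ℚ ℂ (-1 / p) =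
          ∑ i ∈ Finset.univ.erase i₀, ((W.d i / p : ℕ) : ℂ) * W.χ i (gE g) := by
        have h4 : ∑ i ∈ Finset.univ.erase i₀, (W.d i : ℂ) * W.χ i (gE g) =
            p * ∑ i ∈ Finset.univ.erase i₀, ((W.d i / p : ℕ) : ℂ) * W.χ i (gE g) := by
          rw [Finset.mul_sum]
          refine Finset.sum_congr rfl fun i hi => ?_
          by_cases hd : p ∣ W.d i
          · rw [← mul_assoc, ← Nat.cast_mul, Nat.mul_div_cancel' hd]
          · simp [hcon i (Finset.mem_erase.1 hi).1 hd]
        rw [h4] at h1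
        simp only [eq_ratCast, Rat.cast_div, Rat.cast_neg, Rat.cast_one, Rat.cast_natCast]
        field_simp
        linear_combination h1
      rw [this]
      exact IsIntegral.sum _ fun i _ => (isIntegral_algebraMap (x := ((W.d i / p : ℕ) : ℤ))).mul
        (isIntegral_χ W i g)
    rw [isIntegral_algebraMap_iff (algebraMap ℚ ℂ).injective,
      IsIntegrallyClosed.isIntegral_iff] at h3
    obtain ⟨z, hz⟩ := h3
    have hp1 : (p : ℚ) ≠ 0 := by exact_mod_cast hp.ne_zero
    have h5 : (p : ℤ) * (-z) = 1 := by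
      have : (p : ℚ) * (-z) = 1 := by
        rw [show (z : ℚ) = -1 / p from hz]; field_simp
      exact_mod_cast this
    exact hp.ne_one (Nat.dvd_one.1 (by exact_mod_cast (Dvd.intro _ h5 : (p : ℤ) ∣ 1)))
  obtain ⟨i, hi, hd, hχ⟩ := h2
  obtain ⟨ω, hω, he⟩ := exists_central_char W i g
  rw [h] at he
  obtain ⟨a, b, hab⟩ : IsCoprime ((p ^ k : ℕ) : ℤ) (W.d i : ℤ) :=
    Nat.isCoprime_iff_coprime.2 (((Nat.Prime.coprime_iff_not_dvd hp).2 hd).pow_left k)
  have hab' : (a : ℂ) * (p ^ k : ℕ) + b * W.d i = 1 := by exact_mod_cast hab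
  have h3 : (a * ω + b * W.χ i (gE g)) * W.d i = W.χ i (gE g) := by
    linear_combination a * he + W.χ i (gE g) * hab'
  have h4 := eq_scalar_of_integral (M := W.φ (gE g) i) (orderOf_pos g) (by
    rw [← Pi.pow_apply, ← map_pow, ← gE_pow, pow_orderOf_eq_one, gE_one, map_one, Pi.one_apply])
    (α := a * ω + b * W.χ i (gE g)) (by rw [Fintype.card_fin]; exact h3)
    (((isIntegral_algebraMap (x := a)).mul hω).add
      ((isIntegral_algebraMap (x := b)).mul (isIntegral_χ W i g)))
    (fun h0 => hχ (by rw [← h3, h0, zero_mul]))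
  have h5 : W.ker i = ⊥ := (W.ker_normal i).eq_bot_or_eq_top.resolve_right
    fun h => hi (W.eq_of_ker_eq_top h hi₀)
  rw [Subgroup.mem_center_iff]
  intro x
  have h6 : x * g * x⁻¹ * g⁻¹ ∈ W.ker i := by
    have e1 : W.φ (gE x) i * W.φ (gE x⁻¹) i = 1 := by
      rw [← Pi.mul_apply, ← map_mul, gE_mul_inv, map_one, Pi.one_apply]
    have e2 : W.φ (gE g) i * W.φ (gE g⁻¹) i = 1 := by
      rw [← Pi.mul_apply, ← map_mul, gE_mul_inv, map_one, Pi.one_apply]
    rw [Wedd.mem_ker]
    simp only [gE_mul, map_mul, Pi.mul_apply]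
    rw [← e2]
    congr 1
    rw [h4, Matrix.mul_smul, Matrix.smul_mul, mul_one, e1]
  rw [h5, Subgroup.mem_bot, mul_inv_eq_one, mul_inv_eq_iff_eq_mul] at h6
  exact h6

theorem center_eq_top_of_card_dvd [Finite G] [IsSimpleGroup G] {p q a b : ℕ} (hp : p.Prime)
    (hq : q.Prime) (h : Nat.card G ∣ p ^ a * q ^ b) : Subgroup.center G = ⊤ := by
  refine (Subgroup.normal_of_characteristic (Subgroup.center G)).eq_bot_or_eq_top.resolve_left
    fun h0 => ?_
  have := Fact.mk hq
  have := Fact.mk hp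
  let Q : Sylow q G := default
  obtain ⟨k, -, hk⟩ := (Nat.dvd_prime_pow hp).1 (Nat.Coprime.dvd_of_dvd_mul_right
    (((Nat.Prime.coprime_iff_not_dvd hq).2 Q.not_dvd_index).symm.pow_right b)
    ((Subgroup.index_dvd_card (Q : Subgroup G)).trans h))
  by_cases hQ : (Q : Subgroup G) = ⊥
  · rw [hQ, Subgroup.index_bot] at hk
    exact (IsPGroup.of_card hk).bot_lt_center.ne' h0
  · have := (Subgroup.nontrivial_iff_ne_bot _).2 hQ
    obtain ⟨⟨z, hz⟩, hz1⟩ := Subgroup.ne_bot_iff_exists_ne_one.1 Q.isPGroup'.bot_lt_center.ne'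
    have h1 : (Q : Subgroup G) ≤ Subgroup.centralizer {(z : G)} := fun y hy => by
      rw [Subgroup.mem_centralizer_singleton_iff]
      exact congrArg Subtype.val (Subgroup.mem_center_iff.1 hz ⟨y, hy⟩)
    obtain ⟨j, -, hj⟩ := (Nat.dvd_prime_pow hp).1 (hk ▸ Subgroup.index_dvd_of_le h1)
    have h2 := mem_center_of_index_centralizer hp hj
    rw [h0, Subgroup.mem_bot] at h2
    exact hz1 (Subtype.ext (Subtype.ext h2))

/-- Burnside's two-prime theorem. -/
theorem isSolvable_of_card_dvd {p q a b : ℕ} (hp : p.Prime) (hq : q.Prime) :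
    ∀ (n : ℕ) (G : Type*) [Group G] [Finite G], Nat.card G = n → Nat.card G ∣ p ^ a * q ^ b →
      Group.IsSolvable G := by
  intro n
  induction n using Nat.strong_induction_on with
  | _ n ih =>
  intro G _ _ hn h
  by_cases hs : ∀ N : Subgroup G, N.Normal → N = ⊥ ∨ N = ⊤
  · rcases subsingleton_or_nontrivial G with h1 | h1
    · infer_instance
    have : IsSimpleGroup G := ⟨hs⟩
    have h2 := center_eq_top_of_card_dvd hp hq h
    exact Group.isSolvable_of_comm fun x y =>
      Subgroup.mem_center_iff.1 (h2 ▸ Subgroup.mem_top y) x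
  push Not at hs
  obtain ⟨N, hN, h0, h1⟩ := hs
  have e := Subgroup.card_eq_card_quotient_mul_card_subgroup N
  have a1 : 1 < Nat.card N := (Subgroup.one_lt_card_iff_ne_bot N).2 h0
  have a2 : 1 < Nat.card (G ⧸ N) := Subgroup.one_lt_index_of_ne_top h1
  have := ih (Nat.card N) (by rw [← hn, e]; nlinarith) N rfl
    ((Subgroup.card_subgroup_dvd_card N).trans h)
  have := ih (Nat.card (G ⧸ N)) (by rw [← hn, e]; nlinarith) (G ⧸ N) rfl
    ((Subgroup.card_quotient_dvd_card N).trans h)
  exact Group.isSolvable_of_ker_le_range N.subtype (QuotientGroup.mk' N) (by simp)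

theorem burnside_pq [Finite G] {p q a b : ℕ} (hp : p.Prime) (hq : q.Prime)
    (h : Nat.card G ∣ p ^ a * q ^ b) : Group.IsSolvable G :=
  isSolvable_of_card_dvd hp hq _ G rfl h

end Cfsg.Agent.H9
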