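import Cfsg.Agent.H9.ChevFold
import Cfsg.Agent.H9.ChevD4
import Cfsg.Agent.H9.ChevG2

/-!
Triality: the data folding `D₄` onto `G₂`.
-/

set_option autoImplicit false
set_option maxRecDepth 100000
set_option linter.unusedSectionVars false

namespace Cfsg.Agent.H9.Chev

open Cfsg.Lie Cfsg.Agent.H4 Subgroup

section rect

variable {R : Type*} [CommRing R] (D D' : ChevalleyDatum)

def RM (S : ℕ → Col) : Matrix D.Idx D'.Idx R := fun a b => evC 1 (S (enc D' b)) (enc D a)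

theorem ev_app' (t u : R) (S : ℕ → Col) (v : List Ent) (a : D.Idx) :
    ev t u (app (NN D') ⟨S, 1, 0, 0, false⟩ v) (enc D a) = ∑ b, RM D D' S a b * ev t u v (enc D' b) := by
  induction v with
  | nil => simp [app, ev]
  | cons e v ih =>
    have : app (NN D') ⟨S, 1, 0, 0, false⟩ (e :: v) = ite' (Nat.blt e.a (NN D'))
      (appE (S e.a) 1 0 0 e (app (NN D') ⟨S, 1, 0, 0, false⟩ v))
      (app (NN D') ⟨S, 1, 0, 0, false⟩ v) := rfl
    simp only [ev_cons, mul_add, Finset.sum_add_distrib, ← ih]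
    have h2 := sum_ite_enc D' e.a (fun b => evC (1 : R) (S b) (enc D a))
      ((e.c : R) * t ^ e.i * u ^ e.j)
    simp only [RM]
    rw [h2, this, ite'_eq]
    simp only [Nat.blt_eq]
    split_ifs
    · rw [ev_appE]; simp
    · simp

theorem ev_single (t u : R) (c : ℤ) (a b : D.Idx) :
    ev t u [⟨enc D b, 0, 0, c⟩] (enc D a) = if a = b then (c : R) else 0 := by
  simp [ev, (enc_inj D).eq_iff, eq_comm]

noncomputable def chkI (N N' : ℕ) (S : ℕ → Col) (w w' : List Let) : Bool :=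
  allLt N' fun b => zero2 (run N w (app N' ⟨S, 1, 0, 0, false⟩ [⟨b, 0, 0, 1⟩]))
    (app N' ⟨S, 1, 0, 0, false⟩ (run N' w' [⟨b, 0, 0, -1⟩]))

theorem inter_of_chkI (t u : R) {S : ℕ → Col} {w w' : List Let}
    (h : chkI (NN D) (NN D') S w w' = true) : 
    wm D t u w * (RM D D' S : Matrix _ _ R) = (RM D D' S : Matrix _ _ R) * wm D' t u w' := by
  ext a b
  have := ev_of_zero2 t u (allLt_iff.1 h _ (enc_lt D' b)) (enc D a)
  simp only [ev_run D, ev_app', ev_run_one, ev_single] at this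
  simpa [Matrix.mul_apply, add_neg_eq_zero, -Fintype.sum_sum_type] using this

noncomputable def chkE (N N' : ℕ) (S S' : ℕ → Col) : Bool :=
  allLt N' fun b => zero2 (app N ⟨S', 1, 0, 0, false⟩ (app N' ⟨S, 1, 0, 0, false⟩ [⟨b, 0, 0, 1⟩]))
    [⟨b, 0, 0, -1⟩]

theorem inv_of_chkE {S S' : ℕ → Col} (h : chkE (NN D) (NN D') S S' = true) :
    (RM D' D S' : Matrix _ _ R) * (RM D D' S : Matrix _ _ R) = (1 : Matrix D'.Idx D'.Idx R) := by
  ext a b
  have := ev_of_zero2 (1 : R) 1 (allLt_iff.1 h _ (enc_lt D' b)) (enc D' a)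
  simp only [ev_app', ev_single] at this
  rw [Matrix.one_apply, Matrix.mul_apply]
  split_ifs at this ⊢ <;> simpa [add_neg_eq_zero, -Fintype.sum_sum_type] using this

theorem evC_one_cast (C : Col) (a : ℕ) : evC (1 : R) C a = ((evC (1 : ℤ) C a : ℤ) : R) := by
  induction C with
  | nil => simp [evC]
  | cons x C ih => rw [evC_cons, evC_cons, ih]; split_ifs <;> simp

end rect

theorem char_ext {l : ℕ} {F : Type*} [Field F] {χ ψ : AddChar (Fin l → ℤ) Fˣ}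
    (h : ∀ j, χ (Pi.single j 1) = ψ (Pi.single j 1)) : χ = ψ := by
  rw [Dat.eq_prod_pc χ, Dat.eq_prod_pc ψ]; simp only [h]

theorem Dat.Ax.US_le_of_sm {I Φ : Type} [Fintype I] [DecidableEq I] {l : ℕ} {F : Type*} [Field F]
    {d : Dat I Φ l F} (h : d.Ax) {H : Subgroup (GL I F)} (h1 : ∀ p t, d.x (d.sm p) t ∈ H)
    (h2 : ∀ p t, d.x (d.neg (d.sm p)) t ∈ H) : d.US Set.univ ≤ H := by
  obtain ⟨P0, hP, -⟩ := h.reach
  refine Dat.US_le fun r _ => hP (fun r => ∀ t, d.x r t ∈ H) (fun p _ => h1 p) (fun p r ih t => ?_) r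
  obtain ⟨c, hc⟩ := h.x_nw [p] r t
  have hn : d.nw [p] ∈ H := by
    simpa [Dat.nw, Dat.n] using mul_mem (mul_mem (h1 p _) (h2 p _)) (h1 p _)
  exact eq_mul_inv_iff_mul_eq.2 hc ▸ mul_mem (mul_mem hn (ih c)) (inv_mem hn)

namespace Tri

abbrev R4 := Fin chevD4.nroots
abbrev R2 := Fin chevG2.nroots
abbrev P4 := Fin chevD4.rank
abbrev P2 := Fin chevG2.rank

def ρ : R4 → R4 := (![0, 1, 6, 2, 7, 10, 3, 8, 4, 9, 11, 5, 18, 12, 14, 19, 15, 20, 13, 16, 21, 17,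
  22, 23] : Fin 24 → Fin 24)
def η : R4 → ℤ := (![1, 1, -1, 1, -1, 1, -1, 1, -1, 1, 1, 1, 1, 1, 1, -1, 1, -1, 1, -1, 1, -1, 1, 1] :
  Fin 24 → ℤ)
def φ : R4 → R2 := (![0, 1, 2, 2, 3, 4, 2, 3, 3, 5, 4, 4, 7, 7, 6, 8, 8, 9, 7, 8, 9, 9, 10, 11] :
  Fin 24 → Fin 12)
def δ : R4 → ℤ := (![-1, -1, -1, -1, 1, 1, 1, -1, -1, 1, 1, 1, 1, 1, 1, -1, -1, 1, 1, 1, -1, -1, -1,
  -1] : Fin 24 → ℤ)
def π : P4 → P4 := (![2, 1, 3, 0] : Fin 4 → Fin 4)
def p0 : P4 := (0 : Fin 4)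
def p1 : P4 := (1 : Fin 4)
def p2 : P4 := (2 : Fin 4)
def p3 : P4 := (3 : Fin 4)
def q0 : P2 := (0 : Fin 2)
def q1 : P2 := (1 : Fin 2)
def ex (q : P2) : List P4 := if q = q0 then [p0, p2, p3] else [p1]

def cE (b : ℕ) : Col := List.getD [[(0, 0, 1), (2, 0, 1), (3, 0, 1)], [(1, 0, 1)], [(4, 0, -1)],
  [(5, 0, -1)], [(6, 0, -1), (7, 0, -1), (10, 0, 1)], [(8, 0, 1), (11, 0, -1), (12, 0, -1)],
  [(9, 0, 1), (14, 0, 1), (15, 0, 1)], [(13, 0, 1)], [(18, 0, 1)], [(16, 0, 1), (17, 0, 1), (22, 0, 1)],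
  [(19, 0, -1), (20, 0, -1), (23, 0, 1)], [(21, 0, 1), (24, 0, -1), (25, 0, -1)], [(26, 0, -1)],
  [(27, 0, -1)]] b []

def cE' (b : ℕ) : Col := List.getD [[(0, 0, 1)], [(1, 0, 1)], [], [], [(2, 0, -1)], [(3, 0, -1)],
  [(4, 0, -1)], [], [(5, 0, 1)], [(6, 0, 1)], [], [], [], [(7, 0, 1)], [], [], [(9, 0, 1)], [],
  [(8, 0, 1)], [(10, 0, -1)], [], [(11, 0, 1)], [], [], [], [], [(12, 0, -1)], [(13, 0, -1)]] b []

def cM (b : ℕ) : Col := List.getD [[(2, 0, 1)], [(1, 0, 1)], [(3, 0, 1)], [(0, 0, 1)], [(4, 0, 1)],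
  [(5, 0, 1)], [(10, 0, -1)], [(6, 0, 1)], [(11, 0, -1)], [(14, 0, 1)], [(7, 0, -1)], [(12, 0, 1)],
  [(8, 0, -1)], [(13, 0, 1)], [(15, 0, 1)], [(9, 0, 1)], [(22, 0, 1)], [(16, 0, 1)], [(18, 0, 1)],
  [(23, 0, -1)], [(19, 0, 1)], [(24, 0, -1)], [(17, 0, 1)], [(20, 0, -1)], [(25, 0, 1)],
  [(21, 0, -1)], [(26, 0, 1)], [(27, 0, 1)]] b []

def lM : Let := ⟨cM, 1, 0, 0, false⟩

noncomputable def lx (r : R4) (c : ℤ) (i j : ℕ) : Let := ⟨pkD4.col 4 r, c, i, j, true⟩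

noncomputable def yl (r : R4) (i j : ℕ) : List Let :=
  lx r 1 i j :: if ρ r = r then [] else [lx (ρ r) (δ r * δ (ρ r)) i j, lx (ρ (ρ r)) (δ r * δ (ρ (ρ r))) i j]

theorem c_E : chkE 28 14 cE cE' = true := by decide +kernel
theorem c_M3 : chk 28 [lM, lM, lM] [] = true := by decide +kernel
theorem c_Mx : ∀ r : R4, chk 28 [lM, lx r 1 1 0] [lx (ρ r) (η r) 1 0, lM] = true := by
  decide +kernel
theorem c_Mn : ∀ p : P4, chk 28 [lM, ⟨pkD4.nc 4 p, 1, 0, 0, false⟩]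
    [⟨pkD4.nc 4 (π p), 1, 0, 0, false⟩, lM] = true := by decide +kernel
theorem c_Mg : ∀ b < 28, ∀ x ∈ cM b, ∀ i : P4, pkD4.gr x.1 (π i) = pkD4.gr b i := by decide +kernel
theorem c_YE : ∀ r : R4, chkI 28 14 cE (yl r 1 0) [⟨pkG2.col 2 (φ r), δ r, 1, 0, true⟩] = true := by
  decide +kernel
theorem c_YM : ∀ r : R4, chk 28 (lM :: yl r 1 0) (yl r 1 0 ++ [lM]) = true := by decide +kernel
variable (F : Type*) [Field F]

noncomputable abbrev d := goodD4.dat F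
noncomputable abbrev d' := goodG2.dat F

noncomputable def nl (p : P4) : List Let :=
  [lx ((d ℚ).sm p) 1 1 0, lx ((d ℚ).neg ((d ℚ).sm p)) 1 0 1, lx ((d ℚ).sm p) 1 1 0]

theorem c_N : chk 28 (nl p0 ++ nl p2 ++ nl p3)
    (yl ((d ℚ).sm p0) 1 0 ++ yl ((d ℚ).neg ((d ℚ).sm p0)) 0 1 ++ yl ((d ℚ).sm p0) 1 0) = true := by
  decide +kernel

theorem M3 : SM chevD4 cM (1 : F) * (SM chevD4 cM 1 * SM chevD4 cM 1) = 1 := by
  simpa [wm, lm, lM, Let.full] using wm_eq_of_chk chevD4 (1 : F) 1 c_M3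

noncomputable def fold : Dat.Fold (d F) (d' F) where
  M := ⟨SM chevD4 cM 1, SM chevD4 cM 1 * SM chevD4 cM 1, M3 F, by rw [mul_assoc, M3]⟩
  ρ := ρ
  π := π
  E := RM chevD4 chevG2 cE
  E' := RM chevG2 chevD4 cE'
  φ := φ
  Y r t := (d F).x r t * if ρ r = r then 1 else
    (d F).x (ρ r) ((δ r * δ (ρ r) : ℤ) * t) * (d F).x (ρ (ρ r)) ((δ r * δ (ρ (ρ r)) : ℤ) * t)
  c r := δ r
  ex := ex

variable {F}

theorem sm_eq : (d ℚ).sm = (d F).sm := rfl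
theorem neg_eq : (d ℚ).neg = (d F).neg := rfl
theorem pr_eq : (d ℚ).pr = (d F).pr := rfl
theorem W_eq : (d ℚ).W = (d F).W := rfl

theorem M_val : (fold F).M.1 = SM chevD4 cM 1 := rfl

theorem lm_M (t u : F) : lm chevD4 t u lM = (fold F).M.1 := by simp [lm, lM, Let.full, M_val]

theorem lm_x (t u : F) (r : R4) (c : ℤ) (i j : ℕ) :
    lm chevD4 t u (lx r c i j) = ((d F).x r (c * (t ^ i * u ^ j))).1 := by
  rw [Good.dat_x, goodD4.xMat_eq', ← mul_assoc]; rfl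

theorem wm_Y (t u : F) (r : R4) (i j : ℕ) :
    wm chevD4 t u (yl r i j) = ((fold F).Y r (t ^ i * u ^ j)).1 := by
  unfold yl fold
  dsimp only
  split_ifs <;> simp [wm, lm_x]

theorem wm_append (t u : F) (w w' : List Let) :
    wm chevD4 t u (w ++ w') = wm chevD4 t u w * wm chevD4 t u w' := by simp [wm]

/-- the element `x_p(t) x_{-p}(u) x_p(t)` -/
noncomputable def nn {I Φ : Type} [Fintype I] [DecidableEq I] {l : ℕ} (d : Dat I Φ l F) (p : Fin l)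
    (t u : F) : GL I F := d.x (d.sm p) t * d.x (d.neg (d.sm p)) u * d.x (d.sm p) t

theorem nn_one {I Φ : Type} [Fintype I] [DecidableEq I] {l : ℕ} (d : Dat I Φ l F) (p : Fin l) :
    nn d p 1 (-1) = d.n p := rfl

theorem nn_gen {I Φ : Type} [Fintype I] [DecidableEq I] {l : ℕ} {d : Dat I Φ l F} (h : d.Ax) (p : Fin l)
    (z : Fˣ) : nn d p z (-(z : F)⁻¹) = d.D (pc (d.pr p) z) * d.n p := h.n_gen p z

theorem wm_nl (t u : F) (p : P4) : wm chevD4 t u (nl p) = (nn (d F) p t u).1 := by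
  simp only [wm, nl, List.map, lm_x, List.prod_cons, List.prod_nil, nn, mul_assoc]
  simp only [Int.cast_one, pow_one, pow_zero, mul_one, one_mul, Units.val_mul]
  rfl

theorem YYY (p : P4) (q : P2) (h1 : φ ((d ℚ).sm p) = (d' ℚ).sm q)
    (h2 : φ ((d ℚ).neg ((d ℚ).sm p)) = (d' ℚ).neg ((d' ℚ).sm q)) (h3 : δ ((d ℚ).sm p) = 1)
    (h4 : δ ((d ℚ).neg ((d ℚ).sm p)) = 1) (t u : F) :
    ((fold F).Y ((d F).sm p) t * (fold F).Y ((d F).neg ((d F).sm p)) u * (fold F).Y ((d F).sm p) t,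
      nn (d' F) q t u) ∈ (fold F).Γ := by
  have := mul_mem (mul_mem (Dat.Fold.mem_Γ (o := fold F) ((d F).sm p) t)
    (Dat.Fold.mem_Γ (o := fold F) ((d F).neg ((d F).sm p)) u))
    (Dat.Fold.mem_Γ (o := fold F) ((d F).sm p) t)
  rwa [show (fold F).φ ((d F).sm p) = (d' F).sm q from h1,
    show (fold F).φ ((d F).neg ((d F).sm p)) = (d' F).neg ((d' F).sm q) from h2,
    show (fold F).c ((d F).sm p) = 1 from (congrArg Int.cast h3).trans Int.cast_one,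
    show (fold F).c ((d F).neg ((d F).sm p)) = 1 from (congrArg Int.cast h4).trans Int.cast_one,
    one_mul, one_mul] at this

theorem N0 (t u : F) :
    (nn (d F) p0 t u * nn (d F) p2 t u * nn (d F) p3 t u, nn (d' F) q0 t u) ∈ (fold F).Γ := by
  have h1 := wm_eq_of_chk chevD4 t u c_N
  simp only [wm_append, wm_Y, wm_nl, pow_one, pow_zero, mul_one, one_mul, ← Units.val_mul,
    Units.val_inj] at h1
  rw [h1, sm_eq (F := F), neg_eq (F := F)]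
  exact YYY p0 q0 (by decide +kernel) (by decide +kernel) (by decide +kernel) (by decide +kernel) t u

theorem N1 (t u : F) : (nn (d F) p1 t u, nn (d' F) q1 t u) ∈ (fold F).Γ := by
  have := YYY p1 q1 (by decide +kernel) (by decide +kernel) (by decide +kernel) (by decide +kernel) t u
  have h1 : ∀ r t, ρ r = r → (fold F).Y r t = (d F).x r t := fun r t e => by simp [fold, e]
  rw [← sm_eq, ← neg_eq, h1 _ _ (by decide +kernel), h1 _ _ (by decide +kernel)] at this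
  rwa [nn, ← sm_eq, ← neg_eq]

theorem ex_Γ (q : P2) : ((d F).nw (ex q), (d' F).n q) ∈ (fold F).Γ := by
  rcases (by decide : ∀ q : P2, q = q0 ∨ q = q1) q with rfl | rfl
  · simpa [Dat.nw, ex, mul_assoc, nn_one] using N0 (1 : F) (-1)
  · simpa [Dat.nw, ex, show q1 ≠ q0 by decide, nn_one] using N1 (1 : F) (-1)

theorem T_Γ (χ : AddChar (P4 → ℤ) Fˣ) (hχ : ∀ r, χ ((d F).rt (ρ r)) = χ ((d F).rt r)) :
    ∃ t' ∈ (d' F).T, ((d F).D χ, t') ∈ (fold F).Γ := by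
  have h := goodD4.ax F
  have h' := goodG2.ax F
  let K : Subgroup (AddChar (P4 → ℤ) Fˣ) :=
    ((((fold F).Γ ⊓ (d' F).T.comap (MonoidHom.snd _ _))).map (MonoidHom.fst _ _)).comap (d F).D
  suffices χ ∈ K by
    obtain ⟨⟨a, b⟩, ⟨h1, h2⟩, h3⟩ := this
    exact ⟨b, h2, h3 ▸ h1⟩
  have hK : ∀ ψ ψ', ((d F).D ψ, (d' F).D ψ') ∈ (fold F).Γ → ψ ∈ K := fun ψ ψ' e =>
    ⟨(_, _), ⟨e, Dat.D_mem ψ'⟩, rfl⟩
  have k1 : ∀ z, pc ((d F).pr p1) z ∈ K := fun z => by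
    have := mul_mem (N1 (z : F) (-(z : F)⁻¹)) (inv_mem (N1 (1 : F) (-1)))
    simp only [nn_gen h, nn_gen h', nn_one, Prod.inv_mk, Prod.mk_mul_mk, mul_inv_cancel_right] at this
    exact hK _ _ this
  have k0 : ∀ z, pc ((d F).pr p0) z * (pc ((d F).pr p2) z * (pc ((d F).pr p3) z).compAddMonoidHom
      ((d F).W p2)).compAddMonoidHom ((d F).W p0) ∈ K := fun z => by
    have := mul_mem (N0 (z : F) (-(z : F)⁻¹)) (inv_mem (N0 (1 : F) (-1)))
    simp only [nn_gen h, nn_gen h', nn_one, Prod.inv_mk, Prod.mk_mul_mk, mul_inv_cancel_right] at this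
    refine hK _ _ (by
      convert this using 2
      rw [map_mul, ← mul_inv_eq_iff_eq_mul.2 (h.n_D _ _), map_mul,
        ← mul_inv_eq_iff_eq_mul.2 (h.n_D _ _)]
      group)
  have e2 : χ (Pi.single p2 1) = χ (Pi.single p0 1) := by
    rw [← h.rt_sm, ← h.rt_sm, ← hχ ((d F).sm p0)]; rfl
  have e3 : χ (Pi.single p3 1) = χ (Pi.single p0 1) := by
    rw [← e2, ← h.rt_sm, ← h.rt_sm, ← hχ ((d F).sm p2)]; rfl
  convert mul_mem (mul_mem (pow_mem (k0 (χ (Pi.single p0 1))) 2) (pow_mem (k1 (χ (Pi.single p0 1))) 3))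
    (mul_mem (k0 (χ (Pi.single p1 1))) (pow_mem (k1 (χ (Pi.single p1 1))) 2)) using 1
  refine char_ext fun j => ?_
  simp only [AddChar.mul_apply, AddChar.pow_apply, AddChar.compAddMonoidHom_apply, pc_apply]
  simp only [← zpow_natCast, ← zpow_mul, ← zpow_add, ← pr_eq, ← W_eq]
  have := (by decide +kernel : ∀ j : P4,
    let a := (d ℚ).pr p0 (Pi.single j 1) + ((d ℚ).pr p2 ((d ℚ).W p0 (Pi.single j 1)) +
      (d ℚ).pr p3 ((d ℚ).W p2 ((d ℚ).W p0 (Pi.single j 1))))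
    let b := (d ℚ).pr p1 (Pi.single j 1)
    (a * (2 : ℕ) + b * (3 : ℕ) = if j = p1 then 0 else 1) ∧
      a + b * (2 : ℕ) = if j = p1 then 1 else 0) j
  rw [show _ = if j = p1 then (0 : ℤ) else 1 from this.1,
    show _ = if j = p1 then (1 : ℤ) else 0 from this.2]
  rcases (by decide : ∀ j : P4, j = p0 ∨ j = p1 ∨ j = p2 ∨ j = p3) j with rfl | rfl | rfl | rfl
  · simp [show p0 ≠ p1 by decide]
  · simp
  · simp [show p2 ≠ p1 by decide, e2]
  · simp [show p3 ≠ p1 by decide, e3]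

theorem ax : (fold F).Ax := by
  have h := goodD4.ax F
  refine ⟨inv_of_chkE _ _ c_E, fun r => ⟨η r, ?_, fun t => ?_⟩, fun p => ?_, ?_,
    (by decide +kernel : ∀ r, ht 4 ((d ℚ).rt (ρ r)) = ht 4 ((d ℚ).rt r)),
    (by decide +kernel : ∀ r, ρ (ρ (ρ r)) = r),
    (by decide +kernel : ∀ r, ht 2 ((d' ℚ).rt (φ r)) = ht 4 ((d ℚ).rt r)),
    (by decide +kernel : ∀ r s, φ r = φ s → s = r ∨ s = ρ r ∨ s = ρ (ρ r)),
    (by decide +kernel : ∀ s, ∃ r, φ r = s), fun r => ?_, fun r t => ?_, fun r => ?_, fun r t => ?_,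
    fun r t => ?_,
    (by decide +kernel : ∀ r, 0 < ht 4 ((d ℚ).rt r) → ∀ i, 0 ≤ (d ℚ).rt r i),
    (by decide +kernel : ∀ p, ∃ q, p ∈ ex q ∧ ∀ p' ∈ ex q, (d ℚ).sm p' = (d ℚ).sm p ∨
      (d ℚ).sm p' = ρ ((d ℚ).sm p) ∨ (d ℚ).sm p' = ρ (ρ ((d ℚ).sm p))),
    (by decide +kernel : ∀ q, (ex q).Pairwise fun p q => (d ℚ).w p ((d ℚ).sm q) = (d ℚ).sm q),
    (by decide +kernel : ∀ q r, (d ℚ).ww (ex q) (ρ r) = ρ ((d ℚ).ww (ex q) r)),
    (by decide +kernel : ∀ q r, φ ((d ℚ).ww (ex q) r) = (d' ℚ).w q (φ r)), ex_Γ, T_Γ, fun p => ?_⟩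
  · rcases (by decide +kernel : ∀ r, η r = 1 ∨ η r = -1) r with e | e <;> simp [e]
  · ext1
    have := wm_eq_of_chk chevD4 t 1 (c_Mx r)
    simp [wm, lm_M, lm_x] at this
    exact this
  · ext1
    have := wm_eq_of_chk chevD4 (1 : F) 1 (c_Mn p)
    simp [wm, lM, lm, Let.full] at this
    simp only [Units.val_mul, Good.dat_n]
    exact this
  · rintro _ ⟨χ, rfl⟩
    let Q : (P4 → ℤ) →+ (P4 → ℤ) := ⟨⟨fun v => v ∘ π, rfl⟩, fun _ _ => rfl⟩
    refine ⟨χ.compAddMonoidHom Q, ?_⟩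
    rw [eq_mul_inv_iff_mul_eq]
    ext a b
    simp only [Units.val_mul, Dat.D_val, Matrix.diagonal_mul, Matrix.mul_diagonal]
    by_cases h0 : (fold F).M.1 a b = 0
    · simp [h0]
    · obtain ⟨x, hx, h1, -⟩ := exists_of_evC_ne h0
      rw [AddChar.compAddMonoidHom_apply, mul_comm,
        show Q ((d F).gr a) = (d F).gr b from funext fun i => by
          have := c_Mg _ (enc_lt chevD4 b) x hx i
          rwa [h1] at this]
  · rcases (by decide +kernel : ∀ r, δ r = 1 ∨ δ r = -1) r with e | e <;> simp [fold, e]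
  · have := inter_of_chkI chevD4 chevG2 t 1 (c_YE r)
    rw [wm_Y] at this
    simp [wm, lm, Let.full] at this
    simp only [Good.dat_x, goodG2.xMat_eq']
    exact this
  · simp [fold, h.x_zero]
  · have := wm_eq_of_chk chevD4 t 1 (c_YM r)
    rw [wm_append, ← List.singleton_append, wm_append, wm_Y] at this
    ext1
    simpa [wm, lm_M] using this
  · simp only [fold, inv_mul_cancel_left]
    split_ifs with e
    · exact one_mem _
    · exact mul_mem (Dat.x_mem_US (by simpa using e) _) (Dat.x_mem_US (by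
        simpa using (by decide +kernel : ∀ r, ρ r ≠ r → ρ (ρ r) ≠ r) r e) _)
  · refine ⟨Sum.inr (φ ((d F).sm p)), ?_⟩
    change evC (1 : F) (cE (enc chevG2 (Sum.inr (φ ((d ℚ).sm p))))) (enc chevD4 ((d ℚ).e ((d ℚ).sm p))) ≠ 0
    rw [evC_one_cast, (by decide +kernel : ∀ p, evC (1 : ℤ)
      (cE (enc chevG2 (Sum.inr (φ ((d ℚ).sm p))))) (enc chevD4 ((d ℚ).e ((d ℚ).sm p))) = 1) p]
    simp

theorem M_sm (p : P4) (t : F) :
    (fold F).M * (d F).x ((d F).sm p) t * (fold F).M⁻¹ = (d F).x ((d F).sm (π p)) t ∧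
    (fold F).M * (d F).x ((d F).neg ((d F).sm p)) t * (fold F).M⁻¹ =
      (d F).x ((d F).neg ((d F).sm (π p))) t := by
  have key : ∀ r, η r = 1 → (fold F).M * (d F).x r t * (fold F).M⁻¹ = (d F).x (ρ r) t := fun r e => by
    have := wm_eq_of_chk chevD4 t 1 (c_Mx r)
    simp [wm, lm_M, lm_x, e] at this
    rw [mul_inv_eq_iff_eq_mul]
    exact Units.ext this
  have := (by decide +kernel : ∀ p, η ((d ℚ).sm p) = 1 ∧ η ((d ℚ).neg ((d ℚ).sm p)) = 1 ∧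
    ρ ((d ℚ).sm p) = (d ℚ).sm (π p) ∧ ρ ((d ℚ).neg ((d ℚ).sm p)) = (d ℚ).neg ((d ℚ).sm (π p))) p
  rw [← sm_eq, ← neg_eq, key _ this.1, key _ this.2.1, this.2.2.1, this.2.2.2]
  exact ⟨rfl, rfl⟩

theorem M_cube : (fold F).M * (fold F).M * (fold F).M = 1 := by
  rw [mul_assoc]; exact Units.ext (M3 F)

theorem hom_ext {H : Type*} [Group H] (f g : chevD4.group F →* H)
    (h1 : ∀ p t, f ⟨_, goodD4.x_mem F ((d F).sm p) t⟩ = g ⟨_, goodD4.x_mem F ((d F).sm p) t⟩)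
    (h2 : ∀ p t, f ⟨_, goodD4.x_mem F ((d F).neg ((d F).sm p)) t⟩ =
      g ⟨_, goodD4.x_mem F ((d F).neg ((d F).sm p)) t⟩) : f = g := by
  ext x
  obtain ⟨y, hy, e⟩ := (goodD4.ax F).US_le_of_sm (H := (f.eqLocus g).map (chevD4.group F).subtype)
    (fun p t => ⟨_, h1 p t, rfl⟩) (fun p t => ⟨_, h2 p t, rfl⟩) ((goodD4.group_eq F).le x.2)
  obtain rfl : y = x := Subtype.ext e
  exact hy

end Tri

end Cfsg.Agent.H9.Chev
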