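/-
Uniqueness of the Steiner system S(3, 6, 22) and the automorphism group of its graph.
-/
import Cfsg.Agent.H4.Cover
import Cfsg.Prelude.Def_Sporadic_a

set_option autoImplicit false
set_option maxRecDepth 100000

open scoped Pointwise
open MulAction Finset

namespace Cfsg.Agent.H9.HS

open Cfsg.Agent.H4

section steiner

variable {α : Type*} [Fintype α] [DecidableEq α] {B : Set (Finset α)}

theorem eq_of_three (hB : IsSteinerSystem 3 6 B) {b c : Finset α} (hb : b ∈ B) (hc : c ∈ B)
    (h : 3 ≤ (b ∩ c).card) : b = c := by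
  obtain ⟨s, h1, h2⟩ := exists_subset_card_eq h
  exact (hB.2 s h2).unique ⟨hb, h1.trans inter_subset_left⟩ ⟨hc, h1.trans inter_subset_right⟩

theorem eq_of_mem (hB : IsSteinerSystem 3 6 B) {b c : Finset α} (hb : b ∈ B) (hc : c ∈ B)
    {x y z : α} (h1 : x ≠ y) (h2 : x ≠ z) (h3 : y ≠ z) (h4 : {x, y, z} ⊆ b) (h5 : {x, y, z} ⊆ c) :
    b = c := eq_of_three hB hb hc (by
  rw [← card_eq_three.mpr ⟨x, y, z, h1, h2, h3, rfl⟩]
  exact card_le_card (subset_inter h4 h5))

theorem inter_ne_one (hα : Fintype.card α = 22) (hB : IsSteinerSystem 3 6 B) {b c : Finset α}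
    (hb : b ∈ B) (hc : c ∈ B) : (b ∩ c).card ≠ 1 := by
  classical
  intro h
  obtain ⟨p, hp⟩ := card_eq_one.mp h
  have h0 : ∀ x, x ∈ b → x ∈ c → x = p := fun x h1 h2 => by
    rw [← mem_singleton, ← hp]; exact mem_inter.mpr ⟨h1, h2⟩
  have hp' := mem_inter.mp (hp ▸ mem_singleton_self p)
  obtain ⟨y, hy, hyp⟩ := exists_mem_ne (by rw [hB.1 b hb]; norm_num : 1 < b.card) p
  have h1 : ∀ z : α, ∃ d, z ∈ c.erase p → d ∈ B ∧ {p, y, z} ⊆ d := fun z => by
    by_cases hz : z ∈ c.erase p
    · rw [mem_erase] at hz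
      exact (hB.2 {p, y, z} (card_eq_three.mpr ⟨p, y, z, hyp.symm, hz.1.symm,
        fun e => hyp (h0 y hy (e ▸ hz.2)), rfl⟩)).exists.imp fun d hd _ => hd
    · exact ⟨b, fun h => absurd h hz⟩
  choose f hf using h1
  simp only [insert_subset_iff, singleton_subset_iff] at hf
  have h2 : Set.InjOn f (c.erase p) := fun z hz z' hz' e => by
    by_contra hne
    have a := hf z hz
    have a' := hf z' hz'
    have b1 := mem_erase.mp hz
    have b2 := mem_erase.mp hz'
    have := eq_of_mem hB a.1 hc b1.1.symm b2.1.symm hne (by simp [insert_subset_iff, a, e ▸ a'])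
      (by simp [insert_subset_iff, hp', b1, b2])
    exact hyp (h0 y hy (this ▸ a.2.2.1))
  have h3 : b ∉ (c.erase p).image f := fun h => by
    obtain ⟨z, hz, e⟩ := mem_image.mp h
    exact (mem_erase.mp hz).1 (h0 z (e ▸ (hf z hz).2.2.2) (mem_erase.mp hz).2)
  have h4 : ∀ d ∈ insert b ((c.erase p).image f), d ∈ B ∧ p ∈ d ∧ y ∈ d := fun d hd => by
    rcases mem_insert.mp hd with rfl | hd
    · exact ⟨hb, hp'.1, hy⟩
    · obtain ⟨z, hz, rfl⟩ := mem_image.mp hd
      exact ⟨(hf z hz).1, (hf z hz).2.1, (hf z hz).2.2.1⟩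
  have h5 := card_mul_le_card_mul (s := insert b ((c.erase p).image f)) (t := {p, y}ᶜ)
    (fun d x => x ∈ d) (m := 4) (n := 1) (fun d hd => by
      have : bipartiteAbove (fun d x => x ∈ d) {p, y}ᶜ d = d \ {p, y} := by
        ext x; simp only [mem_bipartiteAbove, mem_compl, mem_sdiff, and_comm]
      rw [this, card_sdiff_of_subset (by simp [insert_subset_iff, h4 d hd]), hB.1 d (h4 d hd).1,
        card_pair hyp.symm]) fun x hx => card_le_one.mpr fun d hd d' hd' => by
      rw [mem_bipartiteBelow] at hd hd'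
      simp only [mem_compl, mem_insert, mem_singleton, not_or] at hx
      exact eq_of_mem hB (h4 d hd.1).1 (h4 d' hd'.1).1 hyp.symm (Ne.symm hx.1) (Ne.symm hx.2)
        (by simp [insert_subset_iff, h4 d hd.1, hd.2]) (by simp [insert_subset_iff, h4 d' hd'.1, hd'.2])
  rw [card_insert_of_notMem h3, card_image_of_injOn h2, card_erase_of_mem hp'.2, hB.1 c hc,
    card_compl, card_pair hyp.symm, hα] at h5
  omega

theorem inter_card (hα : Fintype.card α = 22) (hB : IsSteinerSystem 3 6 B) {b c : Finset α}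
    (hb : b ∈ B) (hc : c ∈ B) : Nat.testBit 0x45 (b ∩ c).card = true := by
  have h1 := inter_ne_one hα hB hb hc
  by_cases h : 3 ≤ (b ∩ c).card
  · rw [← eq_of_three hB hb hc h, inter_self, hB.1 b hb]; rfl
  · have : (b ∩ c).card = 0 ∨ (b ∩ c).card = 2 := by omega
    rcases this with h | h <;> rw [h] <;> rfl

theorem steiner_map {β : Type*} (e : α ≃ β) (hB : IsSteinerSystem 3 6 B) :
    IsSteinerSystem 3 6 {s : Finset β | s.map e.symm.toEmbedding ∈ B} := by
  refine ⟨fun b hb => (card_map _).symm.trans (hB.1 _ hb), fun s hs => ?_⟩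
  obtain ⟨b, ⟨h1, h2⟩, h3⟩ := hB.2 (s.map e.symm.toEmbedding) ((card_map _).trans hs)
  refine ⟨b.map e.toEmbedding, ⟨by simpa [map_map] using h1, fun x hx => ?_⟩, fun c hc => ?_⟩
  · simpa using h2 (mem_map_of_mem _ hx)
  · rw [← h3 _ ⟨hc.1, map_subset_map.mpr hc.2⟩]
    simp [map_map]

end steiner

/-- The encoding of the points. -/
def pE : Enc (Fin 22) 22 5 := finEnc 22 5 (by norm_num)

/-- `m` meets the members of `K` in 0, 2 or 6 points. -/
def evn (K : List ℕ) (m : ℕ) : Bool := allL K fun k => tb 0x45 (pc24 (Nat.land k m))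

/-- One step of the normalisation. -/
def stepChk (K : List ℕ) (t c : ℕ) (gens : List ℕ) : Bool :=
  band (band (Nat.blt t 4194304) (Nat.beq (pc 22 t) 3))
    (band (allL gens fun g => band (isPerm 22 5 g) (band (Nat.beq (push 22 5 g t) t)
        (allL K fun k => memL K (pull 22 5 g k))))
      (Nat.beq (sumSub 3 22 0 fun s => b2n (bnot (bimp (evn K (Nat.lor s t))
        (bimp (Nat.beq (Nat.land s t) 0) (bor (Nat.beq (Nat.lor s t) c)
          (anyL gens fun g => Nat.blt (push 22 5 g (Nat.lor s t)) (Nat.lor s t))))))) 0))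

/-- All steps of the normalisation. -/
def stepsChk (l : List (ℕ × ℕ × List ℕ)) (K₀ : List ℕ) : List ℕ → Bool :=
  List.rec (fun K => allL K₀ (memL K))
    (fun s _ ih K => band (stepChk K s.1 s.2.1 s.2.2) (ih (s.2.1 :: K))) l

theorem evn_of {B : Set (Finset (Fin 22))} (hB : IsSteinerSystem 3 6 B) {K : List ℕ}
    (hK : ∀ k ∈ K, pE.ofMask k ∈ B) {b : Finset (Fin 22)} (hb : b ∈ B) :
    evn K (pE.toMask b) = true := by
  refine allL_iff.mpr fun k hk => ?_
  have h1 := inter_card (by simp) hB (hK k hk) hb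
  have h2 : k &&& pE.toMask b < 2 ^ 22 := lt_of_le_of_lt Nat.and_le_right (pE.toMask_lt b)
  have h3 : pc24 (k &&& pE.toMask b) = pc 22 (k &&& pE.toMask b) := by
    rw [pc24_eq (h2.trans (by norm_num)), pc_add 22 2, Nat.mod_eq_of_lt h2, Nat.div_eq_of_lt h2,
      pc_zero, Nat.add_zero]
  rw [← pE.ofMask_toMask b, ← pE.ofMask_land, pE.card_ofMask, ← h3] at h1
  exact (tb_eq _ _).trans h1

/-- Every system that contains the blocks `K` can be moved to one that contains `K₀`. -/
def Q (K₀ K : List ℕ) : Prop := ∀ B : Set (Finset (Fin 22)), IsSteinerSystem 3 6 B →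
  (∀ k ∈ K, pE.ofMask k ∈ B) → ∃ π : Equiv.Perm (Fin 22), ∀ k ∈ K₀, π • pE.ofMask k ∈ B

theorem smul_eq_map (π : Equiv.Perm (Fin 22)) (s : Finset (Fin 22)) :
    π⁻¹ • s = s.map π.symm.toEmbedding := by
  ext x
  rw [mem_inv_smul_finset_iff, mem_map_equiv]
  rfl

theorem step_spec {K₀ K : List ℕ} {t c : ℕ} {gens : List ℕ} (h : stepChk K t c gens = true)
    (hQ : Q K₀ (c :: K)) : Q K₀ K := by
  simp only [stepChk, band_eq, Bool.and_eq_true, Nat.blt_eq, allL_iff, memL_iff] at h
  obtain ⟨⟨h1, h2⟩, h3, h4⟩ := h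
  have h5 := pE.forall_sub 3 _ h4
  have h6 : (pE.ofMask t).card = 3 := (pE.card_ofMask t).trans (Nat.eq_of_beq_eq_true h2)
  have key : ∀ m, ∀ B : Set (Finset (Fin 22)), IsSteinerSystem 3 6 B → (∀ k ∈ K, pE.ofMask k ∈ B) →
      ∀ b ∈ B, pE.ofMask t ⊆ b → pE.toMask b = m →
      ∃ π : Equiv.Perm (Fin 22), ∀ k ∈ K₀, π • pE.ofMask k ∈ B := fun m => by
    induction m using Nat.strong_induction_on with
    | _ m ih =>
    rintro B hB hK b hb ht rfl
    have h7 := h5 (b \ pE.ofMask t) (by rw [card_sdiff_of_subset ht, hB.1 b hb, h6])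
    have h8 : pE.toMask (b \ pE.ofMask t) ||| t = pE.toMask b :=
      (pE.ofMask_inj (Nat.or_lt_two_pow (pE.toMask_lt _) h1) (pE.toMask_lt _)).mp (by
        rw [pE.ofMask_lor, pE.ofMask_toMask, pE.ofMask_toMask, sdiff_union_of_subset ht])
    have h9 : pE.toMask (b \ pE.ofMask t) &&& t = 0 :=
      (pE.disjoint_ofMask_iff (pE.toMask_lt _)).mp (by rw [pE.ofMask_toMask]; exact sdiff_disjoint)
    change Nat.lor _ _ = _ at h8
    simp only [h8, bimp_iff, bor_eq, Bool.or_eq_true, Nat.beq_eq, anyL_iff, Nat.blt_eq] at h7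
    rcases h7 (evn_of hB hK hb) h9 with h10 | ⟨g, hg, h10⟩
    · refine hQ B hB fun k hk => ?_
      rcases List.mem_cons.mp hk with rfl | hk
      · rwa [← h10, pE.ofMask_toMask]
      · exact hK k hk
    · obtain ⟨a1, a2, a3⟩ := h3 g hg
      obtain ⟨σ, hσ⟩ := pE.exists_rep a1
      obtain ⟨π, hπ⟩ := ih _ h10 _ (steiner_map σ hB) (fun k hk => by
        rw [Set.mem_ofPred_eq, ← smul_eq_map, hσ.inv_smul_ofMask]
        exact hK _ (a3 k hk)) (σ • b) (by
          rwa [Set.mem_ofPred_eq, ← smul_eq_map, inv_smul_smul]) (by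
          rw [← Nat.eq_of_beq_eq_true a2, ← hσ.smul_ofMask]
          exact smul_finset_subset_smul_finset ht) (hσ.toMask_smul b)
      exact ⟨σ⁻¹ * π, fun k hk => by rw [mul_smul, smul_eq_map]; exact hπ k hk⟩
  intro B hB hK
  obtain ⟨b, hb, -⟩ := hB.2 _ h6
  exact key _ B hB hK b hb.1 hb.2 rfl

theorem steps_spec {K₀ : List ℕ} (l : List (ℕ × ℕ × List ℕ)) {K : List ℕ}
    (h : stepsChk l K₀ K = true) : Q K₀ K := by
  induction l generalizing K with
  | nil => exact fun B _ hK => ⟨1, fun k hk => by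
      rw [one_smul]; exact hK k (memL_iff.mp (allL_iff.mp h k hk))⟩
  | cons s l ih =>
    have h' : band (stepChk K s.1 s.2.1 s.2.2) (stepsChk l K₀ (s.2.1 :: K)) = true := h
    rw [band_eq, Bool.and_eq_true] at h'
    exact step_spec h'.1 (ih h'.2)

section graph

variable {V : Type*} {n w : ℕ} (E : Enc V n w) (Γ : SimpleGraph V) (A : ℕ → ℕ)

/-- The automorphisms as permutations. -/
def aut : Subgroup (Equiv.Perm V) where
  carrier := {σ | ∀ x y, Γ.Adj (σ x) (σ y) ↔ Γ.Adj x y}
  mul_mem' ha hb x y := (ha _ _).trans (hb x y)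
  one_mem' _ _ := Iff.rfl
  inv_mem' {a} ha x y := by rw [← ha]; simp

theorem card_aut : Nat.card (Γ ≃g Γ) = Nat.card (aut Γ) :=
  Nat.card_congr ⟨fun f => ⟨f.toEquiv, fun _ _ => f.map_rel_iff'⟩,
    fun σ => ⟨σ.1, σ.2 _ _⟩, fun _ => rfl, fun _ => rfl⟩

/-- The test for an automorphism. -/
def autChk (n w : ℕ) (A : ℕ → ℕ) (p : ℕ) : Bool :=
  band (isPerm n w p) (allLt n fun i => Nat.beq (pull n w p (A (img w p i))) (A i))

/-- An upper bound for the pointwise stabiliser of the set `F`. -/
def ub (n : ℕ) (A : ℕ → ℕ) (l : List ℕ) : ℕ → ℕ :=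
  List.rec (fun F => b2n (Nat.beq F (Nat.sub (Nat.pow 2 n) 1)))
    (fun v _ ih F => ite' (band (Nat.blt v n) (bnot (tb F v)))
      (Nat.mul (countLt n fun u => band (Nat.beq (Nat.land (A u) F) (Nat.land (A v) F))
        (bnot (tb F u))) (ih (Nat.lor F (Nat.pow 2 v)))) 0) l

variable {E Γ A} (hA : ∀ x y, Γ.Adj x y ↔ (A (E.ix x)).testBit (E.ix y) = true)
include hA

theorem sound_aut : E.Sound (aut Γ) (autChk n w A) := fun p hp => by
  rw [autChk, band_eq, Bool.and_eq_true] at hp
  obtain ⟨σ, hσ⟩ := E.exists_rep hp.1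
  refine ⟨σ, fun x y => ?_, hσ⟩
  rw [hA, hA, ← Nat.eq_of_beq_eq_true (allLt_iff.mp hp.2 _ (E.ix_lt x)), testBit_pull, hσ x, hσ y]
  simp [E.ix_lt]

theorem card_le_ub [Finite V] (l : List ℕ) {F : ℕ} {K : Subgroup (Equiv.Perm V)} (hK : K ≤ aut Γ)
    (hF : ∀ k, F.testBit k = true → k < n ∧ ∀ g ∈ K, g (E.pt k) = E.pt k) (h : ub n A l F ≠ 0) :
    Nat.card K ≤ ub n A l F := by
  induction l generalizing F K with
  | nil =>
    have h1 : ub n A [] F = b2n (Nat.beq F (2 ^ n - 1)) := rfl
    rw [h1, b2n_eq] at h ⊢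
    split_ifs at h ⊢ with h2
    · have : K = ⊥ := eq_bot_iff.mpr fun g hg => Equiv.ext fun x => by
        have := (hF (E.ix x) (by
          rw [Nat.eq_of_beq_eq_true h2, Nat.testBit_two_pow_sub_one]
          exact decide_eq_true (E.ix_lt x))).2 g hg
        rwa [E.pt_ix] at this
      rw [this, Subgroup.card_bot]
    · exact absurd rfl h
  | cons v l ih =>
    have h1 : ub n A (v :: l) F = ite' (band (Nat.blt v n) (bnot (tb F v)))
      ((countLt n fun u => band (Nat.beq (A u &&& F) (A v &&& F))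
        (bnot (tb F u))) * ub n A l (F ||| 2 ^ v)) 0 := rfl
    rw [h1, ite'_eq] at h ⊢
    split_ifs at h ⊢ with h2
    swap
    · exact absurd rfl h
    simp only [band_eq, Bool.and_eq_true, Nat.blt_eq, bnot_eq, Bool.not_eq_true', tb_eq] at h2
    refine (card_le_of_orbit_subset K (E.pt v) {x | band (Nat.beq (A (E.ix x) &&& F) (A v &&& F))
      (bnot (tb F (E.ix x))) = true} (Set.toFinite _) fun g hg => ?_).trans (Nat.mul_le_mul ?_
        (ih (inf_le_left.trans hK) (fun k hk => ?_) (right_ne_zero_of_mul h)))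
    · simp only [Set.mem_ofPred_eq, band_eq, Bool.and_eq_true, Nat.beq_eq, bnot_eq,
        Bool.not_eq_true', tb_eq]
      refine ⟨Nat.eq_of_testBit_eq fun k => ?_, Bool.eq_false_iff.mpr fun h3 => ?_⟩
      · rw [Nat.testBit_and, Nat.testBit_and]
        cases h3 : F.testBit k
        · simp
        · obtain ⟨h4, h5⟩ := hF k h3
          have h6 := hK hg (E.pt v) (E.pt k)
          rw [h5 g hg, hA, hA, E.ix_pt k h4, E.ix_pt v h2.1] at h6
          rw [Bool.and_true, Bool.and_true]
          exact Bool.eq_iff_iff.mpr h6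
      · have h4 := (hF _ h3).2 g hg
        rw [E.pt_ix] at h4
        have h5 : g • E.pt v = E.pt v := g.injective h4
        rw [h5, E.ix_pt v h2.1, h2.2] at h3
        exact absurd h3 (by decide)
    · rw [countLt_eq, ← Set.ncard_coe_finset]
      exact Set.ncard_le_ncard_of_injOn E.ix (fun x hx => by
        simpa only [coe_filter, mem_range, Set.mem_ofPred_eq, E.ix_lt, true_and] using hx)
        E.ix_injective.injOn
    · rw [Nat.testBit_or, Bool.or_eq_true, Nat.testBit_two_pow, decide_eq_true_iff] at hk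
      rcases hk with hk | rfl
      · exact ⟨(hF k hk).1, fun g hg => (hF k hk).2 g hg.1⟩
      · exact ⟨h2.1, fun g hg => hg.2⟩

end graph

def steps : List (ℕ × ℕ × List ℕ) :=
  [(0x7, 0x3f, [0x2b49ca307b9ac5a928398a320820, 0x2b49ca307b9ac5a9283988518820, 0x2b49ca307b9ac5a928394c418820, 0x2b49ca307b9ac5a92831ca418820, 0x2b49ca307b9ac5a927418a418820, 0x2b49ca307b9ac5a909398a418820, 0x2b49ca307b9ac5a548398a418820, 0x2b49ca307b9ac52d28398a418820, 0x2b49ca307b9ab62928398a418820, 0x2b49ca307b98d5a928398a418820, 0x2b49ca307b5cc5a928398a418820, 0x2b49ca3073dac5a928398a418820, 0x2b49ca2f839ac5a928398a418820, 0x2b49ca117b9ac5a928398a418820, 0x2b49c6507b9ac5a928398a418820, 0x2b494e307b9ac5a928398a418820, 0x2b3a4a307b9ac5a928398a418820, 0x2959ca307b9ac5a928398a418820]),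
   (0x43, 0x3c3, [0x2b49ca307b9ac5a927418a418820, 0x2b49ca307b9ac5a909398a418820, 0x2b49ca307b9ac5a548398a418820, 0x2b49ca307b9ac52d28398a418820, 0x2b49ca307b9ab62928398a418820, 0x2b49ca307b98d5a928398a418820, 0x2b49ca307b5cc5a928398a418820, 0x2b49ca3073dac5a928398a418820, 0x2b49ca2f839ac5a928398a418820, 0x2b49ca117b9ac5a928398a418820, 0x2b49c6507b9ac5a928398a418820, 0x2b494e307b9ac5a928398a418820, 0x2b3a4a307b9ac5a928398a418820, 0x2959ca307b9ac5a928398a418820]),
   (0x403, 0x3c03, [0x2b49ca307b9ab62928398a418820, 0x2b49ca307b98d5a928398a418820, 0x2b49ca307b5cc5a928398a418820, 0x2b49ca3073dac5a928398a418820, 0x2b49ca2f839ac5a928398a418820, 0x2b49ca117b9ac5a928398a418820, 0x2b49c6507b9ac5a928398a418820, 0x2b494e307b9ac5a928398a418820, 0x2b3a4a307b9ac5a928398a418820, 0x2959ca307b9ac5a928398a418820]),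
   (0x4003, 0x3c003, [0x2b49ca2f839ac5a928398a418820, 0x2b49ca117b9ac5a928398a418820, 0x2b49c6507b9ac5a928398a418820, 0x2b494e307b9ac5a928398a418820, 0x2b3a4a307b9ac5a928398a418820, 0x2959ca307b9ac5a928398a418820]),
   (0x40003, 0x3c0003, [0x2b3a4a307b9ac5a928398a418820, 0x2959ca307b9ac5a928398a418820]),
   (0x45, 0x44445, [0x2b49ca307b9ac52d28398a418820, 0x2b49ca307b9ab62928398a418820, 0x2b49ca307b98d5a928398a418820, 0x2b49ca3073dac5a928398a418820, 0x2b49ca2f839ac5a928398a418820, 0x2b49ca117b9ac5a928398a418820, 0x2b494e307b9ac5a928398a418820, 0x2b3a4a307b9ac5a928398a418820, 0x2959ca307b9ac5a928398a418820]),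
   (0x85, 0x88885, [0x2b49ca307b9ab62928398a418820, 0x2b49ca307b98d5a928398a418820, 0x2b49ca2f839ac5a928398a418820, 0x2b49ca117b9ac5a928398a418820, 0x2b3a4a307b9ac5a928398a418820, 0x2959ca307b9ac5a928398a418820]),
   (0x105, 0x111105, [0x2b49ca307b98d5a928398a418820, 0x2b49ca117b9ac5a928398a418820, 0x2959ca307b9ac5a928398a418820]),
   (0x205, 0x222205, []),
   (0x49, 0x92049, [0x274ac9f08b96c6a8e8498a418820, 0x293aca0f8b98b6a907498a418820, 0x275a49f18396d628e9418a418820, 0x2959ca117b98d5a909398a418820, 0x2b3a4a2f839ab62927418a418820]),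
   (0x46, 0xa1046, [0x22f83ab3a49ab62927418a418820, 0x1f18396d62a75a48e9418a418820]),
   (0x51, 0x120851, [0x2959c98d5aa117b909398a418820])]
def TB : ℕ := nat_lit 0x3c0003c950031a800c00cc3000ccaa006294024a0c60280e409c05024c2809090a241814888816208a284482a104918241860850681814a049096c0a018c140609051818285a00915401850c90140d8048842920851444415104624242490860941828504a0639a000d9400300c30c00f0284118a052124812490912228888888852148448448a1842246061214821850a211284444884a114488444450f000c330300c30302a4c00a6c0024268090650182540606a0167000563000f00c0330c003c0300aa6002964005a9001558000f0c0003f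
def TA : ℕ := nat_lit 0x3ffde78000600000000019e1e00c19e4a8000000000001e1e183007e35000000000000652d2d81a060066000000000062d2d64260600198000000199800198032d5500300000001e6000660c03352804800000062a8002ad2840d063000000006550005561480d01c8000000180780780000f4ce0280000001878078003002ac9850000000603484b004590148485000000604b034804a601483028000002a8c288830054244440a0000033123110480a824411440000034a14a20489048422414000002d40d4403060884209220000052c0d08b0112104120c2000004b214914822110410a0c000004c92322481440440c0a400000550c2c4302880440921200187800000007800eab60500001f800000007830034b182800063480000004b465013048280064b000000034c9a0130305001819800001980003332d0048018660000066000c02d2a80300602a800002a8051440a864800605500000550062880a81b0002a8c0000283088094424421403312000030491006842410a204b210000484a20a05022220a052c0800050344050902208c402d4080005300892208212124034a100004c81121108210c1204c920000348221480220c1420550c00002b0442840220940c1801e001e0000000c079cd00018061806180000030199b28006002d002d0000068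16018061860052805280000542a01801e03030882830000c0065014208c2829103048001200990140a42502a204848002105044124092483440503000408a0841212244848882b00004091102114444505110348000212220211110a2852204c8000121840810a422304c405300000c2480810891432803300880c0000a480c21122b004a81101200005880c0c2454804a82202100060420a410c4d003304404080090820a14424a8304808840801210409422253048501102100212040910942c8485022012001881008a24435030484400c002441008888a199801980180000001e07800688a02a08290282800010660609120521050850500001061818920908a1090909000008549808a10912090909080000853600a108a109420a14000200484d0a0914090a2140a00020048328c112088c1420c1000200304a8c08c11120c4120800200303508c0a40c240c2420000082ce00941421442124240000082b18090c2840a80a8280000101e01889450415015050000010198601e60066001800003c00007806c2406241826001c0000005530c42184206201e0400000052c8a4401a2604180640000002d48a22604401c061840000002ab0661801e0060000300c000078661e006180600000c30000007efffff80000000000000000001f80007fff80000000000000018780078007ff800000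00000018078007807807f80000000001444604460460607f0000000012241842182181870f00000001242062406206064ccc000000142201a201c0181c33c000000121141114141414282b800000141094091424141241a6000001208a088a0c0a0a141780000014090a108a220a09826600000110a5041029052806a1500000111402a0d0128050560b000001092284085082d00951500000108c0521280d0028a90b000001121240c090a4092244c80000114089122408924218528000010c1108a42110c2124928000010a0c21410942109188c80000180033004c84cb3400218000018004c80330334cc002180000100000000000000000007ffffe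
def chain : List (ℕ × List ℕ) :=
  [(0, [0x2361cc6c6c68cac05db41983eb5e1a2173c1955647c4759cb80c880a9ef8185b868f427f5ca0e4898201b224e352659a1f24554535ea6a306ea915d7a8414e898648b0c811b8b53645f8b40c2d74aed994eee91b4b0c007, 0x152af4b138c7b584b69112ec9dba1d7ea8b8af7087996041f3cfa4a8037710252ba89d24c23866f729c408ad615333e81b2969e31b20242fa96d323ad812343869fa02084c259c4e016670c185703464672a93a29b05b57]),
   (1, [0x549313e4b419bf587accd3f25a2b43767c040c6ac675793ca4d154a8735ad4e650a8ad6c5dbc33b8ea30308d7417b86935454e619c15dd9cb16e39abf7224896f0daf703c9022014596105418d124c60a0c507070804880, 0x7cede3dc736eb466e9ccebd6dc4c6adee3696ad659936a53165216d760ba3afb095262554103f3e8679e81153d6509a329aa6d1df30661d2a310d17c088e41a94e11dc25098f241c1890c28284102c68104448152c38600]),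
   (2, [0x5e830a86f1df2dae71fa6b6d6a9b3b1659e9ec24bdb5390a3a88a9b8530e22abb6643c62ed92eb12b1ab5860d36ad0702569013dc857d2339918fd09b8a951bce8c97723089314207151e403961a0c2020a485892818080, 0x7371bbc9a9a35a48b0da2c110cd1313e3a15ce9f4ebd2db5d76f5a63676dab898a6aca4b8992a62a22d64f48d432ebcf588076a42415cfc87eb5850c2729a3937ecab8224a120c3410c1c44b05100c9871e105102a2c080]),
   (3, [0x2e64e49bca0fbcbf625a545059c6713d6d46532ba348794e076c69aea0de2b48468dcabb455d660fdac474e61b680beaaca4750a7b71f13dc2fa45c4c80c4eb336d6354102830c2c70c1a284880e549942c3c8922008080, 0x54fb1244b7a5274d3ad2852e5d468b5aab16536c9e3f764a140cda407f427ab58f70a246d9ac1854692e5ae1bc3894ea305f8e64bb771e3bc17e3c8b15ce99346ce182e487902250a96262c70d1824407140c2840c08080]),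
   (4, [0x31723a248eefa04f3ac9c34d59c280c9855a736d1b32f302642ddcc48cb174fa36e4234ae9c4586b55d2a0d1b3f82bd8d4ad8e5cc7cf6f5d95270e2af60e9e507d4aa2e204871450a932c3068b1c4088f24103050608080]),
   (5, [0xc787160bf62bdab372ddebb5a854a54e8d59f223ca93325ce9b1a044850e0c57ef9ebc76c173258c55af5ae1b3a68e59b76a7549f4e84e1b34653205079525488d1182e58a93283868b184888f202848710143040608080]),
   (7, [0x3b724293e64d627a9904baf116546949d4264853ccb06ce617d197566d41c40611eda83d45cc1630d5d3673dbbf5f156d56a6303c9b691244696759beef1c99576f2a2e3470b18245071054b13284490f20182840608080, 0x556a729517a5264f89f25495aac68ae5d316585ea345764a141529c486ddc2f616669f3d4694184d9aae5b3e83f80d19ac578f05fb772c57992e44778ecc1c346cc9d2e488901e58a9426284880e3868c16182840608080, 0x553ad295126ea14185ea247121d4a6bd8377189f244b2af264f1a2d6aac59397536c9f3cfe04fa0b15b46706151a4b96b66b8f05f8f225ccaf62e5b78ecc193668e1d2e4490f2054b132824507103470b18182840608080, 0x3b6e39e5064d3dc49d0d898ae1b3a6e68b18281357966ce3ec2b62b5aade7af7f22e1f52ea93284b2234a8e283080ba336ac61ddfb5352a3488acce79831c99576f2a2e2c60d1c1c409144ca152c3c81124182840608080])]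
def order : List ℕ := [0, 1, 2, 3, 23, 4, 5, 6, 7, 24, 25, 9, 26, 27, 28, 29, 34, 8, 10, 35, 36, 37, 42, 43, 11, 13, 15, 18, 19, 30, 12, 14, 16, 17, 31, 32, 33, 38, 39, 40, 41, 44, 45, 46, 47, 48, 49, 50, 51, 20, 52, 53, 54, 55, 56, 57, 58, 59, 60, 61, 62, 63, 21, 22, 64, 65, 66, 67, 68, 69, 70, 71, 72, 73, 74, 75, 76, 77, 78, 79, 80, 81, 82, 83, 84, 85, 86, 87, 88, 89, 90, 91, 92, 93, 94, 95, 96, 97, 98, 99]
def K0 : List ℕ := [0x120851, 0xa1046, 0x92049, 0x222205, 0x111105, 0x88885, 0x44445, 0x3c0003, 0x3c003, 0x3c03, 0x3c3, 0x3f]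

/-- Block number `k`. -/
def blk (k : ℕ) : ℕ := img 22 TB k

theorem chk1 : stepsChk steps K0 [] = true := by decide +kernel
theorem chk2 : Nat.beq (sumSub 6 22 0 fun m => b2n (bnot (bimp (evn K0 m)
    (anyLt 77 fun k => Nat.beq (blk k) m)))) 0 = true := by decide +kernel
theorem chk3 : (allLt 77 fun k => band (Nat.beq (pc 22 (blk k)) 6) (allLt 77 fun l =>
    bor (Nat.beq k l) (Nat.ble (pc 22 (Nat.land (blk k) (blk l))) 2))) = true := by decide +kernel
theorem chk4 : chainLB 100 7 6 chain (autChk 100 7 (img 100 TA)) = 88704000 := by decide +kernel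
theorem chk5 : ub 100 (img 100 TA) order 0 = 88704000 := by decide +kernel

theorem blk_spec {k : ℕ} (hk : k < 77) : (pE.ofMask (blk k)).card = 6 ∧
    ∀ l < 77, k = l ∨ (pE.ofMask (blk k) ∩ pE.ofMask (blk l)).card ≤ 2 := by
  have := allLt_iff.mp chk3 k hk
  simp only [band_eq, bor_eq, Bool.and_eq_true, Bool.or_eq_true, Nat.beq_eq, Nat.ble_eq,
    allLt_iff] at this
  simp only [← pE.ofMask_land, pE.card_ofMask]
  exact this

theorem unique {α : Type*} [Fintype α] [DecidableEq α] (hα : Fintype.card α = 22)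
    {B : Set (Finset α)} (hB : IsSteinerSystem 3 6 B) : ∃ e : α ≃ Fin 22,
      ∀ s : Finset (Fin 22), s.map e.symm.toEmbedding ∈ B ↔ ∃ k < 77, pE.ofMask (blk k) = s := by
  let e := Fintype.equivFinOfCardEq hα
  obtain ⟨π, hπ⟩ := steps_spec steps chk1 _ (steiner_map e hB) (by simp)
  have h1 := steiner_map (e.trans π⁻¹) hB
  have h2 : ∀ s : Finset (Fin 22), s.map (e.trans π⁻¹).symm.toEmbedding ∈ B →
      ∃ k < 77, pE.ofMask (blk k) = s := fun s hs => by
    obtain ⟨k, hk, h3⟩ := anyLt_iff.mp ((bimp_iff _ _).mp (pE.forall_sub 6 _ chk2 s (h1.1 s hs))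
      (evn_of h1 (fun k hk => by
        have := hπ k hk
        rw [← inv_inv π, smul_eq_map, Set.mem_ofPred_eq, map_map] at this
        exact this) hs))
    exact ⟨k, hk, by rw [Nat.eq_of_beq_eq_true h3, pE.ofMask_toMask]⟩
  refine ⟨e.trans π⁻¹, fun s => ⟨h2 s, ?_⟩⟩
  rintro ⟨k, hk, rfl⟩
  obtain ⟨t, h3, h4⟩ := exists_subset_card_eq (n := 3) (s := pE.ofMask (blk k))
    (by rw [(blk_spec hk).1]; norm_num)
  obtain ⟨b, ⟨h5, h6⟩, -⟩ := h1.2 t h4
  obtain ⟨l, hl, rfl⟩ := h2 b h5
  rcases (blk_spec hk).2 l hl with rfl | h7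
  · exact h5
  · have := card_le_card (subset_inter h3 h6)
    omega

/-- The relation that defines the graph, on numbers. -/
def relC (i j : ℕ) : Bool :=
  ite' (Nat.beq i 0) (band (Nat.ble 1 j) (Nat.blt j 23)) (band (Nat.ble 23 j)
    (ite' (Nat.blt i 23) (tb (blk (j - 23)) (i - 1)) (Nat.beq (blk (i - 23) &&& blk (j - 23)) 0)))

theorem chk6 : (allLt 100 fun i => allLt 100 fun j => Nat.beq (b2n (tb (img 100 TA i) j))
    (b2n (band (bnot (Nat.beq i j)) (bor (relC i j) (relC j i))))) = true := by decide +kernel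

theorem card_aut_eq {α : Type*} [Fintype α] [DecidableEq α] (hα : Fintype.card α = 22)
    {B : Set (Finset α)} (hB : IsSteinerSystem 3 6 B) :
    Nat.card (pointBlockGraph B ≃g pointBlockGraph B) = 88704000 := by
  obtain ⟨e, he⟩ := unique hα hB
  have h1 : ∀ b : B, ∃ k < 77, pE.ofMask (blk k) = b.1.map e.toEmbedding := fun b =>
    (he _).mp (by simp [map_map])
  choose ib h1 h2 using h1
  have h3 : ∀ k, (pE.ofMask (blk (k % 77))).map e.symm.toEmbedding ∈ B := fun k =>
    (he _).mpr ⟨_, Nat.mod_lt _ (by norm_num), rfl⟩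
  let E : Enc (Option (α ⊕ B)) 100 7 :=
    { ix := fun x => x.elim 0 (Sum.elim (fun a => 1 + e a) fun b => 23 + ib b)
      pt := fun i => if i = 0 then none else if i < 23 then some (.inl (e.symm (pE.pt (i - 1))))
        else some (.inr ⟨_, h3 (i - 23)⟩)
      ix_lt := by
        rintro (_ | a | b)
        · norm_num
        · have := (e a).2
          change 1 + (e a : ℕ) < 100
          omega
        · have := h1 b
          change 23 + ib b < 100
          omega
      pt_ix := by
        rintro (_ | a | b)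
        · rfl
        · have := (e a).2
          simp only [Option.elim_some, Sum.elim_inl]
          refine (if_neg (by omega)).trans ((if_pos (by omega)).trans ?_)
          rw [Nat.add_sub_cancel_left, show pE.pt (e a) = e a from pE.pt_ix _, e.symm_apply_apply]
        · simp only [Option.elim_some, Sum.elim_inr]
          refine (if_neg (by omega)).trans ((if_neg (by omega)).trans ?_)
          congr 3
          rw [Nat.add_sub_cancel_left, Nat.mod_eq_of_lt (h1 b), h2]
          simp [map_map]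
      ix_pt := fun i hi => by
        split_ifs with h4 h5
        · exact h4.symm
        · simp only [Option.elim_some, Sum.elim_inl, e.apply_symm_apply]
          rw [show ((pE.pt (i - 1) : Fin 22) : ℕ) = i - 1 from pE.ix_pt _ (by omega)]
          omega
        · simp only [Option.elim_some, Sum.elim_inr]
          have h6 := h2 ⟨_, h3 (i - 23)⟩
          have h7 : (i - 23) % 77 = i - 23 := Nat.mod_eq_of_lt (by omega)
          replace h6 := h6.trans (show _ = pE.ofMask (blk ((i - 23) % 77)) by simp [map_map])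
          rcases (blk_spec (h1 ⟨_, h3 (i - 23)⟩)).2 ((i - 23) % 77) (by omega) with h8 | h8
          · omega
          · rw [h6, inter_self, (blk_spec (by omega)).1] at h8
            omega
      le_pow := by norm_num }
  have h4 : ∀ x y, pointBlockRel B x y ↔ relC (E.ix x) (E.ix y) = true := by
    have a1 : ∀ a, E.ix (some (.inl a)) = 1 + e a := fun _ => rfl
    have a2 : ∀ b, E.ix (some (.inr b)) = 23 + ib b := fun _ => rfl
    have a0 : E.ix none = 0 := rfl
    have a3 : ∀ a, (e a : ℕ) < 22 := fun a => (e a).2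
    rintro (_ | a | b) (_ | a' | b') <;>
      simp only [pointBlockRel, relC, a0, a1, a2, ite'_eq, band_eq, Nat.beq_eq, Nat.blt_eq,
        Nat.add_sub_cancel_left, Bool.and_eq_true, Nat.ble_eq, Bool.ite_eq_true_distrib, tb_eq]
    · simp
    · have := a3 a'
      simp; omega
    · simp
    · simp
    · have := a3 a'
      rw [if_neg (by omega)]
      simp; omega
    · have := a3 a
      rw [if_neg (by omega), if_pos (by omega), ← mem_map' e.toEmbedding, ← h2]
      simp only [Nat.le_add_right, true_and]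
      exact pE.mem_ofMask _ _
    · simp
    · have := a3 a'
      rw [if_neg (by omega)]
      simp; omega
    · rw [if_neg (by omega), if_neg (by omega), ← disjoint_map e.toEmbedding, ← h2, ← h2,
        pE.disjoint_ofMask_iff (a := blk _) (img_lt _ _ _)]
      simp
  have hA : ∀ x y, (pointBlockGraph B).Adj x y ↔
      (img 100 TA (E.ix x)).testBit (E.ix y) = true := fun x y => by
    have h5 := Nat.eq_of_beq_eq_true (allLt_iff.mp (allLt_iff.mp chk6 _ (E.ix_lt x)) _ (E.ix_lt y))
    rw [pointBlockGraph, SimpleGraph.fromRel_adj, h4, h4, ← E.ix_injective.ne_iff, ← tb_eq]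
    simp only [b2n_eq, band_eq, bor_eq, bnot_eq, Bool.and_eq_true, Bool.or_eq_true,
      Bool.not_eq_true', ← Bool.not_eq_true, Nat.beq_eq] at h5
    split_ifs at h5 with h6 h7 h7
    · exact iff_of_true h7 h6
    · exact iff_of_false h7 h6
  have : Fintype (Option (α ⊕ B)) := Fintype.ofFinite _
  rw [card_aut]
  refine le_antisymm ?_ (chk4 ▸ E.chainLB_le _ _ _ _ (sound_aut hA))
  exact (card_le_ub hA order (F := 0) le_rfl (by simp) (by rw [chk5]; norm_num)).trans chk5.le

end Cfsg.Agent.H9.HS
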